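import Cfsg.Agent.H881.S3530.Act
import Cfsg.Agent.H829.S3530.Ree
import Cfsg.Agent.H352.S3530.NT
import Cfsg.Agent.H35.S3530.Core
import Cfsg.Agent.S0626

/-!
# S3530: no chief factor of characteristic 3 (helper881)
-/

set_option autoImplicit false
set_option linter.unusedSectionVars false

namespace Cfsg.Agent.H389.RSq

open Subgroup
open scoped commutatorElement
open Cfsg.Agent.H389.JSq (Has)
open Cfsg.Agent.H381.Tools

universe u

namespace H881

open Cfsg.Agent.LieRecognition in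
theorem exists_nine {m : ℕ} {L : Type u} [Group L] (h : IsRee m L) : ∃ x : L, orderOf x = 9 := by
  obtain ⟨hm, K, _, _, hK, ⟨e⟩⟩ := h
  exact ⟨e.symm _, by rw [MulEquiv.orderOf_eq]; exact ReeSplit.orderOf_U_one (ReeFinal.data hK) hK⟩

section

variable {m : ℕ} {σ : Fin 5 → ℕ} {X Y : Type u} [Group X] [Finite X] [Group Y] [Finite Y] {f : X →* Y}
  {K L : Subgroup Y}

theorem isPGroup_three {V : Subgroup X} (hV : Cfsg.IsElementaryAbelian 3 V) : IsPGroup 3 V := by
  intro v
  exact ⟨1, Subtype.ext (by rw [pow_one]; exact hV.2 v v.2)⟩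

/-- `K` is not covered by the centralizer of the kernel -/
theorem not_le (h : RR m Y K L) (S : Sig m σ) (hm : 1 ≤ m) (hcl : Cl m X) (hf : Function.Surjective f)
    (hV : Cfsg.IsElementaryAbelian 3 f.ker) (hne : f.ker ≠ ⊥)
    (hK : K ≤ (centralizer (f.ker : Set X)).map f) : False := by
  have h3 := isPGroup_three hV
  have hsolv : Group.IsSolvable ((⊤ : Subgroup X) ⊓ f.ker : Subgroup X) := by
    rw [top_inf_eq]
    exact Group.isSolvable_of_comm fun a b => hV.1.is_comm.comm a b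
  have hodd : Odd (Nat.card ((⊤ : Subgroup X) ⊓ f.ker : Subgroup X)) := by
    rw [top_inf_eq, ← Nat.not_even_iff_odd, even_iff_two_dvd]
    exact not_dvd_card Nat.prime_three Nat.prime_two (by norm_num) h3
  have hLt : L ≤ (⊤ : Subgroup X).map f := by
    rw [map_top_of_surjective f hf]; exact le_top
  have hKt : K ≤ (⊤ : Subgroup X).map f := by
    rw [map_top_of_surjective f hf]; exact le_top
  obtain ⟨P, H, C⟩ := exists_cov hsolv hLt
  have p7 : Nat.Prime 7 := by norm_num
  have hZ : ¬ 7 ∣ Nat.card (P ⊓ f.ker : Subgroup X) :=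
    not_dvd_card Nat.prime_three p7 (by norm_num) (h3.to_le inf_le_right)
  obtain ⟨x, hxP, hxo, hfx, hfix⟩ := C.pivot hodd h.reeL.simple le_rfl Nat.prime_two p7 (by norm_num)
    h.reeL.piv_seven hZ
  have hfix3 := hfix 3 Nat.prime_three (by norm_num) (by norm_num) f.ker h3 hne
    (by rw [normalizer_eq_top_iff.2 (inferInstance : f.ker.Normal)]; exact le_top)
  obtain ⟨z, hz, hzo⟩ := exists_mem_of_ne_bot Nat.prime_three (h3.to_le inf_le_left) hfix3
  rw [mem_fix] at hz
  obtain ⟨-, h70, h71⟩ := cls_seven hm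
  obtain ⟨j, hj0, hj7⟩ : ∃ j : Fin 5, j ≠ 0 ∧ j ≠ cls m 7 := by
    generalize cls m 7 = c
    revert c; decide
  have : Fact (σ j).Prime := ⟨S.prime j⟩
  obtain ⟨⟨k, hk⟩, hko⟩ := exists_prime_orderOf_dvd_card' (σ j) (by rw [h.reeK.card]; exact S.dvd j)
  rw [Subgroup.orderOf_mk] at hko
  have hcop : (orderOf x).Coprime (Nat.card ((⊤ : Subgroup X) ⊓ f.ker : Subgroup X)) := by
    rw [hxo, Nat.Prime.coprime_iff_not_dvd p7, top_inf_eq]
    exact not_dvd_card Nat.prime_three p7 (by norm_num) h3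
  have hKx : K ≤ centralizer {f x} := by
    intro y hy
    rw [mem_cent_iff]
    exact mem_centralizer_iff.mp (h.comm hy) _ hfx
  obtain ⟨y, hy, hyk⟩ := le_map_centralizer (mem_top x) hcop hKt hKx hk
  have hxy := mem_cent_iff.mp (mem_inf.mp hy).2
  obtain ⟨c, hc, hck⟩ := hK hk
  have hyc : y ∈ centralizer (f.ker : Set X) := by
    have h1 : c⁻¹ * y ∈ f.ker := by
      rw [MonoidHom.mem_ker, map_mul, map_inv, hck, hyk, inv_mul_cancel]
    have h2 : c⁻¹ * y ∈ centralizer (f.ker : Set X) := by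
      rw [mem_centralizer_iff]
      intro v hv
      exact congrArg Subtype.val (hV.1.is_comm.comm ⟨v, hv⟩ ⟨c⁻¹ * y, h1⟩)
    have h3 := mul_mem hc h2
    rwa [mul_inv_cancel_left] at h3
  have hyz : Commute y z := (mem_centralizer_iff.mp hyc z hz.1).symm
  have hd : σ j ∣ orderOf y := by
    rw [← hko, ← hyk]; exact orderOf_map_dvd f y
  have hyo : orderOf (y ^ (orderOf y / σ j)) = σ j := orderOf_pow_orderOf_div (orderOf_pos y).ne' hd
  have T : Tri m (σ j) 7 3 := ⟨S.prime j, p7, Nat.prime_three, S.ne_two j, by norm_num, by norm_num,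
    by rw [S.cls]; exact hj7, by rw [S.cls, cls_three]; exact hj0, by rw [cls_three]; exact h70⟩
  exact hcl.no_comm T hyo hxo hzo (hxy.symm.pow_left _) (hyz.pow_left _) hz.2

/-- **`p`-stability** for the simple factors -/
theorem le_map_cent {W : Subgroup X} [W.Normal] (hW : Cfsg.IsElementaryAbelian 3 W) (hcl : Cl m X)
    (hL : IsRee m L) (hLf : L ≤ (⊤ : Subgroup X).map f) {a : X} (ha : f a ∈ L) (ha1 : f a ≠ 1)
    (hq : ∀ w ∈ W, Commute ⁅w, a⁆ a) : L ≤ (centralizer (W : Set X)).map f := by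
  have : Fact (Nat.Prime 3) := ⟨Nat.prime_three⟩
  have hst := (Cfsg.Agent.S0626.result (G := X) (p := 3) (by norm_num) (fun T => by
    have h1 := hcl.sylow_comm T.isPGroup'
    exact ⟨⟨fun x y => Subtype.ext (h1 x x.2 y y.2)⟩⟩)).1 W hW a (quad_commutator hq)
  set C := centralizer (W : Set X) with hC
  have hCn : C.Normal := inferInstance
  have hpn : (Cfsg.pCore 3 (X ⧸ C)).Normal := Lib.Cores.pCore_normal 3
  set D := (Cfsg.pCore 3 (X ⧸ C)).comap (QuotientGroup.mk' C) with hD
  have hDn : D.Normal := hpn.comap _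
  have ntop : ∀ T : Subgroup X, T.Normal → (⊤ : Subgroup X) ≤ normalizer (T : Set X) := fun T hT => by
    rw [normalizer_eq_top_iff.2 hT]
  have hLD : L ≤ D.map f := by
    refine eq_of_le_map hL.simple hLf (ntop D hDn) ?_
    intro h0
    have h1 : f a ∈ D.map f ⊓ L := ⟨mem_map_of_mem f hst, ha⟩
    rw [h0, mem_bot] at h1
    exact ha1 h1
  refine eq_of_le_map hL.simple hLf (ntop C hCn) ?_
  intro h0
  have : Fact (Nat.Prime 2) := ⟨Nat.prime_two⟩
  obtain ⟨⟨k, hk⟩, hko⟩ := exists_prime_orderOf_dvd_card' 2 (G := L) (by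
    rw [hL.card, reeCard]
    refine Dvd.dvd.mul_left ?_ _
    have h1 : 3 ^ (2 * m + 1) % 2 = 1 := by
      rw [Nat.pow_mod]; norm_num
    have h2 : 0 < 3 ^ (2 * m + 1) := by positivity
    omega)
  rw [Subgroup.orderOf_mk] at hko
  obtain ⟨d, hd, rfl⟩ := hLD hk
  obtain ⟨n, hn⟩ := (Lib.Cores.pCore_isPGroup (G := X ⧸ C) 3) ⟨_, hd⟩
  have h1 : (QuotientGroup.mk' C d) ^ 3 ^ n = 1 := congrArg Subtype.val hn
  have h2 : d ^ 3 ^ n ∈ C := by
    rw [← map_pow, QuotientGroup.mk'_apply, QuotientGroup.eq_one_iff] at h1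
    exact h1
  have h3 : f d ^ 3 ^ n ∈ C.map f ⊓ L := ⟨by rw [← map_pow]; exact mem_map_of_mem f h2, pow_mem hk _⟩
  rw [h0, mem_bot] at h3
  have h4 := orderOf_dvd_of_pow_eq_one h3
  rw [hko] at h4
  have h5 := Nat.prime_two.dvd_of_dvd_pow h4
  omega

/-- elements of order 9 of the two factors -/
theorem key_product {A : Type u} [AddCommGroup A] {φ : X →* AddMonoid.End A} {ι : A → X}
    (M : Mod f.ker A φ ι) (hcl : Cl m X) (hV : Cfsg.IsElementaryAbelian 3 f.ker) {g g' : X}
    (hg : f g ^ 9 = 1) (hg' : f g' ^ 9 = 1) (hc : Commute (f g) (f g')) :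
    (φ g - 1) ^ 6 * (φ g' - 1) ^ 6 = 0 := by
  have hVc : ∀ v ∈ f.ker, ∀ w ∈ f.ker, v * w = w * v := fun v hv w hw =>
    congrArg Subtype.val (hV.1.is_comm.comm ⟨v, hv⟩ ⟨w, hw⟩)
  have h9 : ∀ t : X, f t ^ 9 = 1 → ∑ i ∈ Finset.range 9, φ t ^ i = 0 := by
    intro t ht
    apply M.geom
    intro v hv
    have h1 : (v * t) ^ 9 ∈ f.ker := by
      rw [MonoidHom.mem_ker, map_pow, map_mul, MonoidHom.mem_ker.mp hv, one_mul, ht]
    have h2 : (v * t) ^ 27 = 1 := by
      have := hV.2 _ h1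
      rwa [← pow_mul] at this
    have h3 := orderOf_dvd_of_pow_eq_one h2
    have h4 : (27 : ℕ) = 3 ^ 3 := by norm_num
    rw [h4] at h3
    obtain ⟨k, hk, hk'⟩ := (Nat.dvd_prime_pow Nat.prime_three).mp h3
    have h5 : k ≠ 3 := by
      rintro rfl
      exact hcl.nine (v * t) (by rw [hk']; norm_num)
    apply orderOf_dvd_iff_pow_eq_one.mp
    rw [hk', show (9 : ℕ) = 3 ^ 2 by norm_num]
    exact pow_dvd_pow 3 (by omega)
  refine key_ring M.char (a := φ g) (b := φ g') (c := φ g'⁻¹) ?_ ?_ ?_ (h9 g hg) (h9 g' hg') ?_ ?_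
  · apply M.phi_comm hVc
    rw [MonoidHom.mem_ker, map_commutatorElement, commutatorElement_eq_one_iff_commute]
    exact hc
  · rw [← map_mul, mul_inv_cancel, map_one]
  · rw [← map_mul, inv_mul_cancel, map_one]
  · rw [← map_mul]
    apply h9
    rw [map_mul, hc.mul_pow, hg, hg', one_mul]
  · rw [← map_mul]
    apply h9
    rw [map_mul, map_inv, hc.inv_right.mul_pow, hg, inv_pow, hg', one_mul, inv_one]

end

end H881

open H881 in
theorem RR.no_chief_three {m : ℕ} {σ : Fin 5 → ℕ} {X Y : Type u} [Group X] [Finite X] [Group Y] [Finite Y]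
    {f : X →* Y} {K L : Subgroup Y} (h : RR m Y K L) (S : Sig m σ) (hm : 1 ≤ m) (hcl : Cl m X)
    (hf : Function.Surjective f)
    (hV : Cfsg.IsElementaryAbelian 3 f.ker) (hmin : ∀ W : Subgroup X, W.Normal → W ≤ f.ker → W = ⊥ ∨ W = f.ker) :
    f.ker = ⊥ := by
  by_contra hne
  have hKt : K ≤ (⊤ : Subgroup X).map f := by
    rw [map_top_of_surjective f hf]; exact le_top
  have hVc : ∀ v ∈ f.ker, ∀ w ∈ f.ker, v * w = w * v := fun v hv w hw =>
    congrArg Subtype.val (hV.1.is_comm.comm ⟨v, hv⟩ ⟨w, hw⟩)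
  obtain ⟨A, _, φ, ι, M⟩ := exists_mod f.ker hV
  obtain ⟨⟨k, hk⟩, hko⟩ := exists_nine h.reeK
  obtain ⟨⟨l, hl⟩, hlo⟩ := exists_nine h.reeL
  rw [Subgroup.orderOf_mk] at hko hlo
  obtain ⟨g, rfl⟩ := hf k
  obtain ⟨g', rfl⟩ := hf l
  have hcomm : Commute (f g) (f g') := (mem_centralizer_iff.mp (h.comm hk) _ hl).symm
  have hpow : ∀ {t : X}, orderOf (f t) = 9 → f (t ^ 3) ≠ 1 := by
    intro t ht h1
    rw [map_pow] at h1
    have h2 := orderOf_dvd_of_pow_eq_one h1
    rw [ht] at h2
    norm_num at h2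
  have key := key_product M hcl hV (g := g) (g' := g') (by rw [← hko]; exact pow_orderOf_eq_one _)
    (by rw [← hlo]; exact pow_orderOf_eq_one _) hcomm
  by_cases hx : (φ g - 1) ^ 6 = 0
  · -- `g ^ 3` acts quadratically
    refine not_le h S hm hcl hf hV hne (le_map_cent hV hcl h.reeK hKt (a := g ^ 3)
      (by rw [map_pow]; exact pow_mem hk 3) (hpow hko) ?_)
    intro w hw
    obtain ⟨a, rfl⟩ := (M.mem w).mp hw
    apply M.quad
    rw [M.cube, hx]
    rfl
  · set T : AddMonoid.End A := (φ g - 1) ^ 6 with hT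
    set N : Subgroup X := L.comap f with hN
    have hLn := h.normalL
    have hNn : N.Normal := hLn.comap f
    have hVN : f.ker ≤ N := fun v hv => by
      rw [hN, mem_comap, MonoidHom.mem_ker.mp hv]; exact one_mem _
    have hnT : ∀ n ∈ N, φ n * T = T * φ n := by
      intro n hn
      have h1 : φ n * φ g = φ g * φ n := by
        apply M.phi_comm hVc
        rw [MonoidHom.mem_ker, map_commutatorElement, commutatorElement_eq_one_iff_commute]
        exact mem_centralizer_iff.mp (h.comm hk) _ hn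
      have h2 : Commute (φ n) (φ g) := h1
      exact (h2.sub_right (Commute.one_right _)).pow_right 6
    set V1 := M.img T with hV1
    have hV1V : V1 ≤ f.ker := M.img_le T
    have hV1n : (V1.subgroupOf N).Normal := by
      refine ⟨fun v hv n => ?_⟩
      rw [mem_subgroupOf] at hv ⊢
      exact M.img_conj (hnT n n.2) hv
    have hV1e : Cfsg.IsElementaryAbelian 3 (V1.subgroupOf N) := by
      refine ⟨⟨⟨fun a b => ?_⟩⟩, fun a ha => ?_⟩
      · apply Subtype.ext
        apply Subtype.ext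
        exact hVc _ (hV1V a.2) _ (hV1V b.2)
      · apply Subtype.ext
        exact hV.2 _ (hV1V ha)
    have h1 := le_map_cent (X := N) (f := f.comp N.subtype) hV1e (hcl.subgroup N) h.reeL (by
      intro y hy
      obtain ⟨x, rfl⟩ := hf y
      exact ⟨⟨x, hy⟩, mem_top _, rfl⟩) (a := ⟨g' ^ 3, by
        rw [hN, mem_comap, map_pow]; exact pow_mem hl 3⟩)
      (by show f (g' ^ 3) ∈ L; rw [map_pow]; exact pow_mem hl 3) (by exact hpow hlo) (by
        rintro ⟨w, hwN⟩ hw
        rw [mem_subgroupOf] at hw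
        obtain ⟨a, ha⟩ := hw
        have h2 : Commute ⁅ι (T a), g' ^ 3⁆ (g' ^ 3) := by
          apply M.quad
          rw [M.cube]
          have h3 : (φ g' - 1) ^ 6 * T = T * (φ g' - 1) ^ 6 := by
            have h4 : Commute (φ g') (φ g) := by
              apply M.phi_comm hVc
              rw [MonoidHom.mem_ker, map_commutatorElement, commutatorElement_eq_one_iff_commute]
              exact hcomm.symm
            exact (((h4.sub_right (Commute.one_right _)).sub_left
              ((Commute.one_left _).sub_right (Commute.one_right _))).pow_pow 6 6)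
          rw [key] at h3
          exact congrArg (fun R : AddMonoid.End A => R a) h3
        rw [ha] at h2
        exact Subtype.ext h2.eq)
    have hNc : ∀ n ∈ N, ∀ v ∈ V1, Commute n v := by
      intro n hn v hv
      obtain ⟨⟨c, hcN⟩, hc, hcn⟩ := h1 (show f n ∈ L from hn)
      have hcn' : f c = f n := hcn
      have h2 : c * v = v * c := by
        have := mem_centralizer_iff.mp hc ⟨v, hVN (hV1V hv)⟩ hv
        exact (congrArg Subtype.val this).symm
      have h3 : n * c⁻¹ ∈ f.ker := by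
        rw [MonoidHom.mem_ker, map_mul, map_inv, hcn', mul_inv_cancel]
      have h4 : Commute (n * c⁻¹) v := hVc _ h3 _ (hV1V hv)
      have h5 : n = n * c⁻¹ * c := by group
      rw [h5]
      exact h4.mul_left h2
    have hWn : (f.ker ⊓ centralizer (N : Set X)).Normal := inferInstance
    have hV1W : V1 ≤ f.ker ⊓ centralizer (N : Set X) := by
      intro v hv
      refine mem_inf.mpr ⟨hV1V hv, ?_⟩
      rw [mem_centralizer_iff]
      intro n hn
      exact (hNc n hn v hv).eq
    rcases hmin _ hWn inf_le_left with h2 | h2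
    · apply M.img_ne_bot hx
      rw [eq_bot_iff, ← h2]
      exact hV1W
    · refine not_le h.symm S hm hcl hf hV hne ?_
      intro y hy
      obtain ⟨n, rfl⟩ := hf y
      refine ⟨n, ?_, rfl⟩
      rw [SetLike.mem_coe, mem_centralizer_iff]
      intro v hv
      have h3 : v ∈ f.ker ⊓ centralizer (N : Set X) := by rw [h2]; exact hv
      exact (mem_centralizer_iff.mp h3.2 n hy).symm

end Cfsg.Agent.H389.RSq
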