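import Cfsg.Agent.H881.S3530.Alg
import Cfsg.Agent.H389.R.RR

/-!
# S3530: a normal elementary abelian 3-subgroup as a module (helper881)
-/

set_option autoImplicit false
set_option linter.unusedSectionVars false

namespace Cfsg.Agent.H389.RSq.H881

open Subgroup
open scoped commutatorElement

universe u

/-- the module attached to a normal elementary abelian 3-subgroup -/
structure Mod {X : Type u} [Group X] (V : Subgroup X) (A : Type u) [AddCommGroup A]
    (φ : X →* AddMonoid.End A) (ι : A → X) : Prop where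
  add : ∀ a b, ι (a + b) = ι a * ι b
  inj : Function.Injective ι
  mem : ∀ x, x ∈ V ↔ ∃ a, ι a = x
  act : ∀ g a, ι (φ g a) = g * ι a * g⁻¹
  three : ∀ a : A, a + a + a = 0

theorem exists_mod {X : Type u} [Group X] (V : Subgroup X) [hn : V.Normal] (hV : Cfsg.IsElementaryAbelian 3 V) :
    ∃ (A : Type u) (_ : AddCommGroup A) (φ : X →* AddMonoid.End A) (ι : A → X), Mod V A φ ι := by
  obtain ⟨hc, h3⟩ := hV
  letI : CommGroup V := { (inferInstance : Group V) with mul_comm := fun a b => hc.is_comm.comm a b }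
  let φ : X →* AddMonoid.End (Additive V) :=
    { toFun := fun g => MonoidHom.toAdditive (MulAut.conjNormal g : MulAut V).toMonoidHom
      map_one' := by
        ext v
        rw [map_one]
        rfl
      map_mul' := by
        intro g h
        ext v
        rw [map_mul]
        rfl }
  refine ⟨Additive V, inferInstance, φ, fun a => ((Additive.toMul a : V) : X), ?_, ?_, ?_, ?_, ?_⟩
  · intro a b; rfl
  · intro a b h
    exact Subtype.ext h
  · intro x
    constructor
    · intro hx; exact ⟨Additive.ofMul (⟨x, hx⟩ : V), rfl⟩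
    · rintro ⟨a, rfl⟩; exact (Additive.toMul a).2
  · intro g a; rfl
  · intro a
    apply Subtype.ext
    have := h3 _ (Additive.toMul a : V).2
    rw [pow_succ, pow_two] at this
    exact this

namespace Mod

variable {X : Type u} [Group X] {V : Subgroup X} {A : Type u} [AddCommGroup A]
    {φ : X →* AddMonoid.End A} {ι : A → X} (M : Mod V A φ ι)
include M

theorem zero : ι 0 = 1 := by
  have h := M.add 0 0
  rw [add_zero] at h
  exact (mul_eq_left.mp h.symm)

theorem neg (a : A) : ι (-a) = (ι a)⁻¹ := by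
  rw [eq_inv_iff_mul_eq_one, ← M.add, neg_add_cancel, M.zero]

theorem eq_one {a : A} : ι a = 1 ↔ a = 0 := by
  rw [← M.zero]
  exact M.inj.eq_iff

theorem mem' (a : A) : ι a ∈ V := (M.mem _).mpr ⟨a, rfl⟩

theorem char : (3 : AddMonoid.End A) = 0 := by
  have : (3 : AddMonoid.End A) = 1 + 1 + 1 := by norm_num
  rw [this]
  ext a
  exact M.three a

theorem comm_iff {t : X} {b : A} : Commute t (ι b) ↔ φ t b = b := by
  constructor
  · intro h
    apply M.inj
    rw [M.act, h.eq, mul_inv_cancel_right]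
  · intro h
    have := M.act t b
    rw [h, eq_mul_inv_iff_mul_eq] at this
    exact this.symm

theorem bracket (t : X) (a : A) : ⁅ι a, t⁆ = ι (a - φ t a) := by
  rw [sub_eq_add_neg, ← map_neg, M.add, M.act, M.neg, commutatorElement_def]
  group

theorem quad {t : X} {a : A} (h : ((φ t - 1) ^ 2 : AddMonoid.End A) a = 0) : Commute ⁅ι a, t⁆ t := by
  rw [M.bracket]
  refine Commute.symm (M.comm_iff.mpr ?_)
  have h1 : ((φ t - 1) ^ 2 : AddMonoid.End A) a = φ t (φ t a - a) - (φ t a - a) := by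
    rw [pow_two]; rfl
  rw [h1] at h
  have h2 : a - φ t a = -(φ t a - a) := by abel
  rw [h2, map_neg, sub_eq_zero.mp h]

theorem mul_pow (t : X) (a : A) (n : ℕ) :
    (ι a * t) ^ n = ι ((∑ i ∈ Finset.range n, φ t ^ i) a) * t ^ n := by
  induction n with
  | zero => simp [M.zero]
  | succ n ih =>
    have h1 : (∑ i ∈ Finset.range (n + 1), φ t ^ i) a = a + φ t ((∑ i ∈ Finset.range n, φ t ^ i) a) := by
      have h2 : (∑ i ∈ Finset.range (n + 1), φ t ^ i) = 1 + φ t * ∑ i ∈ Finset.range n, φ t ^ i := by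
        rw [Finset.sum_range_succ', pow_zero, Finset.mul_sum, add_comm]
        congr 1
        exact Finset.sum_congr rfl fun i _ => pow_succ' _ _
      rw [h2]; rfl
    rw [pow_succ', ih, h1, M.add, M.act]
    group

theorem geom {t : X} {n : ℕ} (h : ∀ v ∈ V, (v * t) ^ n = 1) : ∑ i ∈ Finset.range n, φ t ^ i = 0 := by
  ext a
  have h1 := h _ (M.mem' a)
  have h2 := h 1 (one_mem V)
  rw [one_mul] at h2
  rw [M.mul_pow, h2, mul_one, M.eq_one] at h1
  exact h1

theorem phi_mem (hc : ∀ v ∈ V, ∀ w ∈ V, v * w = w * v) {v : X} (hv : v ∈ V) : φ v = 1 := by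
  ext a
  have : Commute v (ι a) := hc v hv _ (M.mem' a)
  exact M.comm_iff.mp this

theorem phi_comm (hc : ∀ v ∈ V, ∀ w ∈ V, v * w = w * v) {s t : X} (h : ⁅s, t⁆ ∈ V) : φ s * φ t = φ t * φ s := by
  have h1 := M.phi_mem hc h
  have h2 : s * t = ⁅s, t⁆ * (t * s) := by rw [commutatorElement_def]; group
  rw [← map_mul, h2, map_mul, h1, one_mul, map_mul]

theorem cube (t : X) : (φ (t ^ 3) - 1) ^ 2 = (φ t - 1) ^ 6 := by
  have h1 : φ t ^ 3 - 1 = (φ t - 1) ^ 3 + 3 * (φ t ^ 2 - φ t) := by noncomm_ring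
  rw [map_pow, h1, M.char, zero_mul, add_zero, ← pow_mul]

/-- the image of an endomorphism -/
def img (T : AddMonoid.End A) : Subgroup X where
  carrier := {x | ∃ a, ι (T a) = x}
  one_mem' := ⟨0, by rw [map_zero, M.zero]⟩
  mul_mem' := by
    rintro _ _ ⟨a, rfl⟩ ⟨b, rfl⟩
    exact ⟨a + b, by rw [map_add, M.add]⟩
  inv_mem' := by
    rintro _ ⟨a, rfl⟩
    exact ⟨-a, by rw [map_neg, M.neg]⟩

theorem mem_img {T : AddMonoid.End A} {x : X} : x ∈ M.img T ↔ ∃ a, ι (T a) = x := Iff.rfl

theorem img_le (T : AddMonoid.End A) : M.img T ≤ V := by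
  rintro _ ⟨a, rfl⟩
  exact M.mem' _

theorem img_ne_bot {T : AddMonoid.End A} (hT : T ≠ 0) : M.img T ≠ ⊥ := by
  intro h
  apply hT
  ext a
  have : ι (T a) ∈ M.img T := ⟨a, rfl⟩
  rw [h, mem_bot, M.eq_one] at this
  exact this

theorem img_conj {T : AddMonoid.End A} {t : X} (h : φ t * T = T * φ t) {x : X} (hx : x ∈ M.img T) :
    t * x * t⁻¹ ∈ M.img T := by
  obtain ⟨a, rfl⟩ := hx
  refine ⟨φ t a, ?_⟩
  rw [← M.act]
  exact congrArg ι (congrArg (fun S : AddMonoid.End A => S a) h).symm

end Mod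

/-- a quadratic element -/
theorem quad_commutator {G : Type*} [Group G] [Finite G] {W : Subgroup G} {a : G}
    (h : ∀ w ∈ W, Commute ⁅w, a⁆ a) : ⁅⁅W, zpowers a⁆, zpowers a⁆ = ⊥ := by
  rw [commutator_eq_bot_iff_le_centralizer]
  have h1 : ⁅W, zpowers a⁆ ≤ centralizer {a} := by
    rw [commutator_le]
    intro w hw g hg
    obtain ⟨n, rfl⟩ : ∃ n : ℕ, a ^ n = g := by
      rw [← mem_powers_iff_mem_zpowers] at hg
      exact hg
    rw [H381.Tools.mem_cent_iff]
    induction n with
    | zero => rw [pow_zero, commutatorElement_one_right]; exact Commute.one_right _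
    | succ n ih =>
      have ih' := ih (npow_mem_zpowers a n)
      have h2 : ⁅w, a ^ (n + 1)⁆ = ⁅w, a⁆ * (a * ⁅w, a ^ n⁆ * a⁻¹) := by
        rw [commutatorElement_def, commutatorElement_def, commutatorElement_def, pow_succ']
        group
      rw [h2, ih'.eq, mul_inv_cancel_right]
      exact (h w hw).symm.mul_right ih'
  intro x hx
  rw [mem_centralizer_iff]
  rintro _ ⟨k, rfl⟩
  have h2 := H381.Tools.mem_cent_iff.mp (h1 hx)
  exact (h2.zpow_left k).eq

end Cfsg.Agent.H389.RSq.H881
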